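import Groth.Agent.TwC18.ConstBC
import Groth.Agent.TwC10.Basic
import Groth.Agent.GrpSchLib.TwConstClopen
import Groth.Agent.UnibEtale.Chart
import Groth.Agent.UnibEtale.Comp
import Groth.Agent.S2258

/-!
# Connected components of twisted constant schemes over a geometrically unibranch base
-/

set_option autoImplicit false
set_option linter.style.haveILetI false
set_option backward.isDefEq.respectTransparency false
set_option synthInstance.maxHeartbeats 400000

universe u

open CategoryTheory CategoryTheory.Limits AlgebraicGeometry TopologicalSpace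

namespace Groth.Agent.TwC18

theorem nilradical_isPrime_of_geomUnibranch {A : Type u} [CommRing A] [IsLocalRing A]
    (h : CAlg2.IsGeomUnibranch A) : (nilradical A).IsPrime :=
  (Ideal.Quotient.isDomain_iff_prime _).1 h.1.1

/-- If every local ring has prime nilradical, the connected components of a locally Noetherian scheme are its
irreducible components. -/
theorem component_eq {X : Scheme.{u}} [IsLocallyNoetherian X]
    (hu : ∀ x : X, (nilradical (X.presheaf.stalk x)).IsPrime) (x : X) :
    IsClopen (irreducibleComponent x) ∧ connectedComponent x = irreducibleComponent x := by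
  have ho : IsOpen (irreducibleComponent x) := isOpen_iff_forall_mem_open.2 fun z hz => by
    obtain ⟨U, hzU, hU⟩ := S2258.result X z (hu z)
    obtain ⟨Z, hZ, hUZ⟩ := exists_preirreducible (U : Set X) hU.2
    have hZm : Z ∈ irreducibleComponents X := ⟨⟨⟨z, hUZ.1 hzU⟩, hZ⟩, fun T hT hZT => (hUZ.2 T hT.2 hZT).le⟩
    have he := H23.FinCondSch.unique_component (hu z) hZm
      (irreducibleComponent_mem_irreducibleComponents x) (hUZ.1 hzU) hz
    exact ⟨U, fun w hw => he ▸ hUZ.1 hw, U.2, hzU⟩
  refine ⟨⟨isClosed_irreducibleComponent, ho⟩, Set.Subset.antisymm ?_ ?_⟩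
  · exact isPreconnected_connectedComponent.subset_isClopen ⟨isClosed_irreducibleComponent, ho⟩
      ⟨x, mem_connectedComponent, mem_irreducibleComponent⟩
  · exact isIrreducible_irreducibleComponent.isConnected.isPreconnected.subset_connectedComponent
      mem_irreducibleComponent

theorem finite_component {S : Scheme.{u}} [IsLocallyNoetherian S]
    (hS : ∀ s : S, CAlg2.IsGeomUnibranch (S.presheaf.stalk s))
    (P : Over S) (hP : TwC.IsTwConst TwC.Topology.etale P) (x : P.left) :
    ∃ U : P.left.Opens, (U : Set P.left) = connectedComponent x ∧ IsFinite (U.ι ≫ P.hom) := by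
  haveI : Etale P.hom := TwC10.etale_of_twConst hP
  haveI : IsLocallyNoetherian P.left := LocallyOfFiniteType.isLocallyNoetherian P.hom
  obtain ⟨hU, hUc⟩ := component_eq (X := P.left) (fun z => by
    haveI : Etale (Scheme.Opens.ι (⊤ : P.left.Opens) ≫ P.hom) := inferInstance
    exact nilradical_isPrime_of_geomUnibranch (UnibEtale.stalk_of_etale P.hom z ⊤ trivial (hS _)).1) x
  obtain ⟨hC, hCc⟩ := component_eq (X := S) (fun s => nilradical_isPrime_of_geomUnibranch (hS s)) (P.hom x)
  let U : P.left.Opens := ⟨irreducibleComponent x, hU.2⟩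
  let C : S.Opens := ⟨irreducibleComponent (P.hom x), hC.2⟩
  refine ⟨U, hUc.symm, ?_⟩
  haveI : IsClosedImmersion U.ι :=
    IsClosedImmersion.of_isPreimmersion _ (by rw [Scheme.Opens.range_ι]; exact hU.1)
  haveI : IsClosedImmersion C.ι :=
    IsClosedImmersion.of_isPreimmersion _ (by rw [Scheme.Opens.range_ι]; exact hC.1)
  have hsub : ∀ z ∈ U, P.hom z ∈ C := fun z hz => by
    show P.hom z ∈ irreducibleComponent (P.hom x)
    rw [← hCc]
    exact P.hom.continuous.image_connectedComponent_subset x ⟨z, by rw [hUc]; exact hz, rfl⟩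
  let l : (U : Scheme.{u}) ⟶ C := IsOpenImmersion.lift C.ι (U.ι ≫ P.hom) (by
    rintro _ ⟨z, rfl⟩
    rw [Scheme.Opens.range_ι]
    exact hsub _ z.2)
  have hl : l ≫ C.ι = U.ι ≫ P.hom := IsOpenImmersion.lift_fac _ _ _
  let z : (U : Scheme.{u}) ⟶ (Red.bc C.ι P).left := pullback.lift U.ι l hl.symm
  have hz : z ≫ pullback.fst P.hom C.ι = U.ι := pullback.lift_fst _ _ _
  haveI : IsOpenImmersion (z ≫ pullback.fst P.hom C.ι) := by rw [hz]; infer_instance
  haveI : IsClosedImmersion (z ≫ pullback.fst P.hom C.ι) := by rw [hz]; infer_instance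
  haveI : IsOpenImmersion (pullback.fst P.hom C.ι) := inferInstance
  haveI : IsOpenImmersion z := IsOpenImmersion.of_comp z (pullback.fst P.hom C.ι)
  haveI : IsClosedImmersion z := IsClosedImmersion.of_comp z (pullback.fst P.hom C.ι)
  haveI : ConnectedSpace (C : Scheme.{u}) :=
    isConnected_iff_connectedSpace.mp isIrreducible_irreducibleComponent.isConnected
  -- generic points
  have hξ := (isIrreducible_irreducibleComponent (x := x)).isGenericPoint_genericPoint hU.1
  set ξ := (isIrreducible_irreducibleComponent (x := x)).genericPoint with hξdef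
  have hξU : ξ ∈ U := hξ.mem
  have hfib : {w ∈ (U : Set P.left) | P.hom w = P.hom ξ} ⊆ {ξ} := by
    rintro w ⟨hw, hwξ⟩
    haveI := UnibEtale.locallyQuasiFinite_of_formallyUnramified P.hom
    have hd := P.hom.isDiscrete_preimage_singleton (P.hom ξ)
    obtain ⟨V, hV, hVw⟩ := isDiscrete_iff_forall_mem_exists_isOpen.mp hd w hwξ
    have h : ξ ∈ V ∩ P.hom ⁻¹' {P.hom ξ} :=
      ⟨(hξ.specializes hw).mem_open hV (hVw.symm ▸ (Set.mem_singleton w)).1, rfl⟩
    rw [hVw] at h
    exact (Set.mem_singleton_iff.mp h).symm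
  have hfin : ∃ s : (C : Scheme.{u}), Set.Finite ((z ≫ (Red.bc C.ι P).hom) ⁻¹' {s}) := by
    refine ⟨⟨P.hom ξ, hsub ξ hξU⟩, Set.Finite.subset (Set.finite_singleton (⟨ξ, hξU⟩ : (U : Scheme.{u}))) ?_⟩
    intro w hw
    refine U.ι.isOpenEmbedding.injective ?_
    refine Set.mem_singleton_iff.mp (hfib ⟨w.2, ?_⟩)
    have h : (z ≫ pullback.snd P.hom C.ι) w = ⟨P.hom ξ, hsub ξ hξU⟩ := hw
    rw [show z ≫ pullback.snd P.hom C.ι = l from pullback.lift_snd _ _ _] at h
    rw [← Scheme.Hom.comp_apply, ← hl, Scheme.Hom.comp_apply, h]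
    rfl
  haveI : IsFinite (z ≫ (Red.bc C.ι P).hom) :=
    GrpSchLib.TwConstClopen.main (Red.bc C.ι P) (isTwConst_etale_bc P C.ι hP) z hfin
  have he : U.ι ≫ P.hom = (z ≫ (Red.bc C.ι P).hom) ≫ C.ι := by
    rw [← hl]
    congr 1
    exact (pullback.lift_snd _ _ _).symm
  rw [he]
  infer_instance

end Groth.Agent.TwC18
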