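import Groth.Agent.TwC10.Basic

/-!
# fppf twisted constant schemes: separated and etale
-/

set_option autoImplicit false
set_option linter.style.haveILetI false

universe u

open CategoryTheory CategoryTheory.Limits AlgebraicGeometry MorphismProperty

namespace Groth.Agent.TwC18

set_option backward.isDefEq.respectTransparency.types false

variable {S : Scheme.{u}}

/-- A point of the base has an affine neighbourhood covered by an affine etale piece over a trivialising map. -/
theorem exists_cover_nhd_fppf {S' : Scheme.{u}} (f : S' ⟶ S) [Flat f] [LocallyOfFinitePresentation f] {s : S} (hs : s ∈ Set.range f) :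
    ∃ (V : S.Opens) (W : S'.Opens) (e : W ≤ f ⁻¹ᵁ V), s ∈ V ∧ Flat (f.resLE V W e) ∧
      Surjective (f.resLE V W e) ∧ QuasiCompact (f.resLE V W e) := by
  obtain ⟨s', rfl⟩ := hs
  obtain ⟨A, hA, hsA, -⟩ := exists_isAffineOpen_mem_and_subset (x := f s') (U := ⊤) trivial
  obtain ⟨W₀, hW₀, hs'W₀, hW₀A⟩ := exists_isAffineOpen_mem_and_subset (x := s') (U := f ⁻¹ᵁ A) hsA
  obtain ⟨a, ha, hsa⟩ := hA.exists_basicOpen_le (V := ⟨f '' W₀, f.isOpenMap _ W₀.2⟩) ⟨f s', ⟨s', hs'W₀, rfl⟩⟩ hsA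
  let V := S.basicOpen a
  let W := W₀ ⊓ f ⁻¹ᵁ V
  have e : W ≤ f ⁻¹ᵁ V := inf_le_right
  have hW : IsAffineOpen W := by
    have : W = S'.basicOpen (f.appLE A W₀ hW₀A a) := by
      rw [Scheme.basicOpen_appLE]
    rw [this]
    exact hW₀.basicOpen _
  haveI : IsAffine (V : Scheme.{u}) := hA.basicOpen a
  haveI : CompactSpace (W : Scheme.{u}) := isCompact_iff_compactSpace.mp hW.isCompact
  refine ⟨V, W, e, hsa, ?_, ⟨fun v => ?_⟩, (quasiCompact_iff_compactSpace _).mpr inferInstance⟩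
  · haveI : Flat (f.resLE V W e ≫ V.ι) := by rw [Scheme.Hom.resLE_comp_ι]; infer_instance
    exact MorphismProperty.of_postcomp (W := @Flat) (W' := @IsOpenImmersion) _ V.ι inferInstance ‹_›
  · obtain ⟨w, hw, hwv⟩ := ha v.2
    refine ⟨⟨w, hw, show f w ∈ V by rw [hwv]; exact v.2⟩, V.ι.isOpenEmbedding.injective ?_⟩
    rw [← Scheme.Hom.comp_apply, Scheme.Hom.resLE_comp_ι, Scheme.Hom.comp_apply]
    exact hwv

theorem of_locally_const_fppf (P : MorphismProperty Scheme.{u}) [IsZariskiLocalAtTarget P]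
    [P.DescendsAlong (@Surjective ⊓ @Flat ⊓ @QuasiCompact)]
    (hP : ∀ (T : Scheme.{u}) (I : Type u), P (Sigma.desc fun _ : I => 𝟙 T))
    {X : Over S} (hX : TwC.IsTwConst TwC.Topology.fppf X) : P X.hom := by
  choose S' f hf hlfp hsf I he using hX
  have hcov := fun s => haveI := hf s; haveI := hlfp s; exists_cover_nhd_fppf (f s) (hsf s)
  choose V W e hsV hfl hsu hqc using hcov
  rw [IsZariskiLocalAtTarget.iff_of_iSup_eq_top (P := P) V
    (eq_top_iff.mpr fun s _ => TopologicalSpace.Opens.mem_iSup.mpr ⟨s, hsV s⟩)]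
  intro s
  obtain ⟨g⟩ := he s
  refine MorphismProperty.of_pullback_fst_of_descendsAlong (P := P)
    (Q := @Surjective ⊓ @Flat ⊓ @QuasiCompact) (f := (f s).resLE (V s) (W s) (e s)) (g := X.hom ∣_ V s)
    ⟨⟨hsu s, hfl s⟩, hqc s⟩ ?_
  have hsnd : P (pullback.snd X.hom (f s)) := by
    have hw : g.hom.left ≫ (Sigma.desc fun _ : I s => 𝟙 (S' s)) = pullback.snd X.hom (f s) := Over.w g.hom
    rw [← hw, P.cancel_left_of_respectsIso]
    exact hP _ _
  have h1 : IsPullback (pullback.fst ((f s).resLE (V s) (W s) (e s)) (X.hom ∣_ V s))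
      (pullback.snd ((f s).resLE (V s) (W s) (e s)) (X.hom ∣_ V s) ≫ (X.hom ⁻¹ᵁ V s).ι)
      ((W s).ι ≫ f s) X.hom := by
    rw [← Scheme.Hom.resLE_comp_ι (f s) (e s)]
    exact (IsPullback.of_hasPullback _ _).paste_vert (isPullback_morphismRestrict X.hom (V s))
  have h2 : IsPullback (pullback.snd X.hom (f s) ∣_ W s)
      ((pullback.snd X.hom (f s) ⁻¹ᵁ W s).ι ≫ pullback.fst X.hom (f s)) ((W s).ι ≫ f s) X.hom :=
    (isPullback_morphismRestrict (pullback.snd X.hom (f s)) (W s)).paste_vert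
      (IsPullback.of_hasPullback X.hom (f s)).flip
  rw [← h1.isoIsPullback_hom_fst _ _ h2, P.cancel_left_of_respectsIso]
  exact IsZariskiLocalAtTarget.restrict hsnd _

theorem etale_of_twConst_fppf {X : Over S} (hX : TwC.IsTwConst TwC.Topology.fppf X) : Etale X.hom :=
  of_locally_const_fppf @Etale TwC10.etale_sigmaDesc hX

theorem isSeparated_of_twConst_fppf {X : Over S} (hX : TwC.IsTwConst TwC.Topology.fppf X) : IsSeparated X.hom :=
  haveI := EtFound.fpqc_isSeparated.{u}
  of_locally_const_fppf @IsSeparated TwC10.isSeparated_sigmaDesc hX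

end Groth.Agent.TwC18
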