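import Groth.Agent.TwC18.ConstBC
import Groth.Agent.EtFound.Descent
import Groth.Agent.H23.LocNoethTop
import Mathlib.AlgebraicGeometry.Sites.Fpqc

/-!
# Descent of a trivialisation along a finite flat covering radicial at one point
-/

set_option autoImplicit false
set_option linter.style.haveILetI false
set_option backward.isDefEq.respectTransparency false
set_option backward.isDefEq.respectTransparency.types false
set_option synthInstance.maxHeartbeats 400000

universe u

open CategoryTheory CategoryTheory.Limits AlgebraicGeometry TopologicalSpace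

namespace Groth.Agent.TwC18

variable {N : Scheme.{u}}

/-- Descent of a trivialisation with compatible sections along an fpqc morphism. -/
theorem const_of_compatible {W : Scheme.{u}} (q : W ⟶ N) [Flat q] [Surjective q] [QuasiCompact q]
    (Y : Over N) (I : Type u) (a : I → (W ⟶ Y.left)) (ha : ∀ i, a i ≫ Y.hom = q)
    (hiso : IsIso (Sigma.desc fun i => pullback.lift (f := Y.hom) (g := q) (a i) (𝟙 W)
      (by rw [ha i, Category.id_comp])))
    (hc : ∀ i, pullback.fst q q ≫ a i = pullback.snd q q ≫ a i) :
    Nonempty (Y ≅ TwC.const N I) := by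
  have hker : ∀ i {Z : Scheme.{u}} (g₁ g₂ : Z ⟶ W), g₁ ≫ q = g₂ ≫ q → g₁ ≫ a i = g₂ ≫ a i := fun i Z g₁ g₂ h => by
    rw [← pullback.lift_fst (f := q) (g := q) g₁ g₂ h, Category.assoc, hc i, ← Category.assoc, pullback.lift_snd]
  let σ : I → (N ⟶ Y.left) := fun i => EffectiveEpi.desc q (a i) (hker i)
  have hσ : ∀ i, q ≫ σ i = a i := fun i => EffectiveEpi.fac q (a i) (hker i)
  have hσY : ∀ i, σ i ≫ Y.hom = 𝟙 N := fun i => by
    rw [← cancel_epi q, ← Category.assoc, hσ, ha, Category.comp_id]
  let c : (∐ fun _ : I => N) ⟶ Y.left := Sigma.desc σ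
  let d := Sigma.desc fun i => pullback.lift (f := Y.hom) (g := q) (a i) (𝟙 W) (by rw [ha i, Category.id_comp])
  have hcY : c ≫ Y.hom = Sigma.desc fun _ : I => 𝟙 N := Sigma.hom_ext _ _ fun i => by
    rw [Sigma.ι_desc_assoc, Sigma.ι_desc, hσY]
  have hds : d ≫ pullback.snd Y.hom q = Sigma.desc fun _ : I => 𝟙 W := Sigma.hom_ext _ _ fun i => by
    rw [Sigma.ι_desc_assoc, Sigma.ι_desc, pullback.lift_snd]
  have hdf : d ≫ pullback.fst Y.hom q = (Limits.Sigma.map fun _ : I => q) ≫ c := Sigma.hom_ext _ _ fun i => by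
    rw [Sigma.ι_desc_assoc, pullback.lift_fst, Sigma.ι_map_assoc, Sigma.ι_desc, hσ]
  have hsq : IsPullback d (Limits.Sigma.map fun _ : I => q) (pullback.fst Y.hom q) c := by
    refine IsPullback.of_right ?_ hdf (IsPullback.of_hasPullback Y.hom q).flip
    rw [hds, hcY]
    exact (isPullback_desc q I).flip
  haveI : Flat (pullback.fst Y.hom q) := inferInstance
  haveI : Surjective (pullback.fst Y.hom q) := inferInstance
  haveI : QuasiCompact (pullback.fst Y.hom q) := inferInstance
  have hci : IsIso c := MorphismProperty.of_isPullback_of_descendsAlong (P := MorphismProperty.isomorphisms Scheme.{u})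
    (Q := (@Surjective ⊓ @Flat ⊓ @QuasiCompact : MorphismProperty Scheme.{u}))
    hsq ⟨⟨inferInstance, inferInstance⟩, inferInstance⟩ hiso
  exact ⟨(Over.isoMk (asIso c) hcY : TwC.const N I ≅ Y).symm⟩

/-- Two morphisms to an etale separated scheme which agree at a point agree on its connected component. -/
theorem eq_on_component {R : Scheme.{u}} (Y : Over N) [Etale Y.hom] [IsSeparated Y.hom] (b₁ b₂ : R ⟶ Y.left)
    (hb : b₁ ≫ Y.hom = b₂ ≫ Y.hom) (ρ : R) {D : Scheme.{u}} (δ : D ⟶ R) (hδ : δ ≫ b₁ = δ ≫ b₂)
    (hρ : ρ ∈ Set.range δ) {Z : Scheme.{u}} (k : Z ⟶ R) (hk : Set.range k ⊆ connectedComponent ρ) :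
    k ≫ b₁ = k ≫ b₂ := by
  let l : R ⟶ pullback Y.hom Y.hom := pullback.lift b₁ b₂ hb
  let e := pullback.snd (pullback.diagonal Y.hom) l
  haveI : IsOpenImmersion (pullback.diagonal Y.hom) := inferInstance
  haveI : IsClosedImmersion (pullback.diagonal Y.hom) := inferInstance
  haveI : IsOpenImmersion e := inferInstance
  haveI : IsClosedImmersion e := inferInstance
  have hle : Set.range δ ⊆ Set.range e := by
    have h : (δ ≫ b₁) ≫ pullback.diagonal Y.hom = δ ≫ l := by
      apply pullback.hom_ext
      · rw [Category.assoc, pullback.diagonal_fst, Category.comp_id, Category.assoc, pullback.lift_fst]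
      · rw [Category.assoc, pullback.diagonal_snd, Category.comp_id, Category.assoc, pullback.lift_snd, hδ]
    rintro _ ⟨x, rfl⟩
    refine ⟨pullback.lift (δ ≫ b₁) δ h x, ?_⟩
    rw [← Scheme.Hom.comp_apply, pullback.lift_snd]
  have hC : connectedComponent ρ ⊆ Set.range e :=
    isPreconnected_connectedComponent.subset_isClopen
      ⟨e.isClosedEmbedding.isClosed_range, e.isOpenEmbedding.isOpen_range⟩ ⟨ρ, mem_connectedComponent, hle hρ⟩
  have hfac : IsOpenImmersion.lift e k (hk.trans hC) ≫ e = k := IsOpenImmersion.lift_fac _ _ _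
  have he : e ≫ b₁ = e ≫ b₂ := by
    have h := pullback.condition (f := pullback.diagonal Y.hom) (g := l)
    have h1 := congrArg (· ≫ pullback.fst Y.hom Y.hom) h
    have h2 := congrArg (· ≫ pullback.snd Y.hom Y.hom) h
    simp only [Category.assoc, pullback.diagonal_fst, pullback.diagonal_snd, l, pullback.lift_fst,
      pullback.lift_snd, Category.comp_id] at h1 h2
    exact h1.symm.trans h2
  rw [← hfac, Category.assoc, he, ← Category.assoc]

/-- A scheme which becomes constant over a finite flat covering with one geometric point over `t` is constant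
near `t`. -/
theorem exists_const_nhd [IsLocallyNoetherian N] {W : Scheme.{u}} (q : W ⟶ N) [IsFinite q] [Flat q] [Surjective q]
    (Y : Over N) [Etale Y.hom] [IsSeparated Y.hom] (I : Type u) (e : Red.bc q Y ≅ TwC.const W I) (t : N)
    (hone : ∀ r₁ r₂ : ↥(pullback q q), (pullback.fst q q ≫ q) r₁ = t → (pullback.fst q q ≫ q) r₂ = t → r₁ = r₂) :
    ∃ U : N.Opens, t ∈ U ∧ Nonempty (Red.bc U.ι Y ≅ TwC.const U I) := by
  haveI : IsFinite (pullback.fst q q ≫ q) := inferInstance
  haveI : IsLocallyNoetherian (pullback q q) := LocallyOfFiniteType.isLocallyNoetherian (pullback.fst q q ≫ q)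
  haveI : LocallyConnectedSpace ↥(pullback q q) := H23.LocNoethTop.locallyConnectedSpace fun y => by
    obtain ⟨A, hA, hyA, -⟩ := exists_isAffineOpen_mem_and_subset (show y ∈ (⊤ : (pullback q q).Opens) from trivial)
    haveI : IsNoetherianRing Γ(pullback q q, A) := IsLocallyNoetherian.component_noetherian ⟨A, hA⟩
    exact ⟨A, A.2.mem_nhds hyA, noetherianSpace_of_isAffineOpen A hA⟩
  obtain ⟨w, hw⟩ := q.surjective t
  let δ : W ⟶ pullback q q := pullback.lift (𝟙 W) (𝟙 W) rfl
  let ρ : ↥(pullback q q) := δ w
  have hρ : (pullback.fst q q ≫ q) ρ = t := by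
    show (pullback.fst q q ≫ q) (δ w) = t
    rw [← Scheme.Hom.comp_apply, ← Category.assoc, pullback.lift_fst, Category.id_comp, hw]
  have hclosed : IsClosed ((pullback.fst q q ≫ q) '' (connectedComponent ρ)ᶜ) :=
    (pullback.fst q q ≫ q).isClosedMap _ isOpen_connectedComponent.isClosed_compl
  let U : N.Opens := ⟨_, hclosed.isOpen_compl⟩
  have htU : t ∈ U := by
    rintro ⟨r, hr, hrt⟩
    exact hr ((hone r ρ hrt hρ) ▸ mem_connectedComponent)
  refine ⟨U, htU, ?_⟩
  -- the sections
  let a : I → (W ⟶ Y.left) := fun i =>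
    Sigma.ι (fun _ : I => W) i ≫ e.inv.left ≫ pullback.fst Y.hom q
  have haq : ∀ i, Sigma.ι (fun _ : I => W) i ≫ e.inv.left ≫ pullback.snd Y.hom q = 𝟙 W := fun i => by
    rw [show e.inv.left ≫ pullback.snd Y.hom q = _ from Over.w e.inv]
    exact Sigma.ι_desc _ i
  have ha : ∀ i, a i ≫ Y.hom = q := fun i => by
    have h := congrArg (· ≫ q) (haq i)
    simp only [Category.assoc, Category.id_comp, ← pullback.condition] at h
    simpa only [a, Category.assoc] using h
  let d := Sigma.desc fun i => pullback.lift (f := Y.hom) (g := q) (a i) (𝟙 W) (by rw [ha i, Category.id_comp])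
  have hde : d = e.inv.left := Sigma.hom_ext _ _ fun i => by
    rw [Sigma.ι_desc]
    apply pullback.hom_ext
    · exact (pullback.lift_fst _ _ _).trans (Category.assoc _ _ _).symm
    · exact (pullback.lift_snd _ _ _).trans ((haq i).symm.trans (Category.assoc _ _ _).symm)
  haveI hdi : IsIso d := by rw [hde]; infer_instance
  -- restrict to `U`
  let q' := pullback.snd q U.ι
  let p := pullback.fst q U.ι
  let a' : I → (pullback q U.ι ⟶ (Red.bc U.ι Y).left) := fun i =>
    pullback.lift (p ≫ a i) q' (by rw [Category.assoc, ha i, pullback.condition])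
  have ha' : ∀ i, a' i ≫ (Red.bc U.ι Y).hom = q' := fun i => pullback.lift_snd _ _ _
  have ha'' : ∀ i, a' i ≫ pullback.fst Y.hom U.ι = p ≫ a i := fun i => pullback.lift_fst _ _ _
  refine const_of_compatible q' (Red.bc U.ι Y) I a' ha' ?_ fun i => ?_
  · let d' := Sigma.desc fun i => pullback.lift (f := (Red.bc U.ι Y).hom) (g := q') (a' i) (𝟙 _)
      (by rw [ha' i, Category.id_comp])
    let m : pullback (Red.bc U.ι Y).hom q' ⟶ pullback Y.hom q :=
      pullback.lift (pullback.fst _ _ ≫ pullback.fst Y.hom U.ι) (pullback.snd _ _ ≫ p) (by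
        rw [Category.assoc, pullback.condition, Category.assoc,
          show p ≫ q = q' ≫ U.ι from pullback.condition, ← pullback.condition_assoc]
        rfl)
    have hm : IsPullback m (pullback.snd (Red.bc U.ι Y).hom q') (pullback.snd Y.hom q) p := by
      refine IsPullback.of_right ?_ (pullback.lift_snd _ _ _) (IsPullback.of_hasPullback Y.hom q)
      rw [pullback.lift_fst, show p ≫ q = q' ≫ U.ι from pullback.condition]
      exact (IsPullback.of_hasPullback (Red.bc U.ι Y).hom q').paste_horiz (IsPullback.of_hasPullback Y.hom U.ι)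
    have hdd : d' ≫ m = (Limits.Sigma.map fun _ : I => p) ≫ d := Sigma.hom_ext _ _ fun i => by
      rw [Sigma.ι_desc_assoc, Sigma.ι_map_assoc, Sigma.ι_desc]
      apply pullback.hom_ext
      · rw [Category.assoc, pullback.lift_fst, pullback.lift_fst_assoc, Category.assoc, pullback.lift_fst]
        exact congrArg (p ≫ ·) (pullback.lift_fst _ _ _).symm
      · rw [Category.assoc, pullback.lift_snd, pullback.lift_snd_assoc, Category.assoc, pullback.lift_snd,
          Category.id_comp, Category.comp_id]
    have hsq : IsPullback (Limits.Sigma.map fun _ : I => p) d' d m := by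
      refine IsPullback.of_bot ?_ hdd.symm hm
      have h1 : d' ≫ pullback.snd (Red.bc U.ι Y).hom q' = Sigma.desc fun _ : I => 𝟙 _ :=
        Sigma.hom_ext _ _ fun i => by rw [Sigma.ι_desc_assoc, Sigma.ι_desc, pullback.lift_snd]
      have h2 : d ≫ pullback.snd Y.hom q = Sigma.desc fun _ : I => 𝟙 W :=
        Sigma.hom_ext _ _ fun i => by rw [Sigma.ι_desc_assoc, Sigma.ι_desc, pullback.lift_snd]
      rw [h1, h2]
      exact isPullback_desc p I
    exact MorphismProperty.of_isPullback (P := MorphismProperty.isomorphisms Scheme.{u}) hsq hdi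
  · -- compatibility
    let k : pullback q' q' ⟶ pullback q q :=
      pullback.map q' q' q q p p U.ι pullback.condition.symm pullback.condition.symm
    have hk : Set.range k ⊆ connectedComponent ρ := by
      rintro _ ⟨z, rfl⟩
      by_contra hz
      have h : (pullback.fst q q ≫ q) (k z) = U.ι ((pullback.fst q' q' ≫ q') z) := by
        rw [← Scheme.Hom.comp_apply, ← Scheme.Hom.comp_apply, Category.assoc, pullback.lift_fst_assoc, Category.assoc,
          show p ≫ q = q' ≫ U.ι from pullback.condition]
      exact ((pullback.fst q' q' ≫ q') z).2 ⟨k z, hz, h⟩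
    have heq := eq_on_component Y (pullback.fst q q ≫ a i) (pullback.snd q q ≫ a i)
      (by rw [Category.assoc, ha i, Category.assoc, ha i, pullback.condition]) ρ δ
      (by simp only [δ, pullback.lift_fst_assoc, pullback.lift_snd_assoc]) ⟨w, rfl⟩ k hk
    apply pullback.hom_ext
    · rw [Category.assoc, ha'', Category.assoc, ha'']
      simpa only [k, pullback.map, pullback.lift_fst_assoc, pullback.lift_snd_assoc, Category.assoc] using heq
    · rw [Category.assoc, Category.assoc]
      show pullback.fst q' q' ≫ a' i ≫ (Red.bc U.ι Y).hom = pullback.snd q' q' ≫ a' i ≫ (Red.bc U.ι Y).hom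
      rw [ha', pullback.condition]

end Groth.Agent.TwC18
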