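import Groth.Agent.TwC18.EtaleRefine
import Groth.Agent.TwC18.FppfBasic
import Groth.Agent.TwC18.RadicialDescent

/-!
# fppf twisted constant schemes over locally Noetherian bases are quasi-isotrivial
-/

set_option autoImplicit false
set_option linter.style.haveILetI false
set_option backward.isDefEq.respectTransparency false
set_option backward.isDefEq.respectTransparency.types false
set_option synthInstance.maxHeartbeats 400000
set_option maxHeartbeats 1000000

universe u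

open CategoryTheory CategoryTheory.Limits AlgebraicGeometry TopologicalSpace

namespace Groth.Agent.TwC18

theorem isTwConst_etale_of_fppf {S : Scheme.{u}} [IsLocallyNoetherian S] (X : Over S)
    (hX : TwC.IsTwConst TwC.Topology.fppf X) : TwC.IsTwConst TwC.Topology.etale X := by
  haveI : Etale X.hom := etale_of_twConst_fppf hX
  haveI : IsSeparated X.hom := isSeparated_of_twConst_fppf hX
  intro s
  obtain ⟨S', f, hf, hlfp, ⟨s', rfl⟩, I, htriv⟩ := hX s
  haveI := hf
  haveI := hlfp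
  obtain ⟨A, hA, hsA, -⟩ := exists_isAffineOpen_mem_and_subset (x := f s') (U := ⊤) trivial
  obtain ⟨W₀, hW₀, hs'W₀, hW₀A⟩ := exists_isAffineOpen_mem_and_subset (x := s') (U := f ⁻¹ᵁ A) hsA
  let φ := f.appLE A W₀ hW₀A
  letI : Algebra Γ(S, A) Γ(S', W₀) := φ.hom.toAlgebra
  haveI : Module.Flat Γ(S, A) Γ(S', W₀) :=
    (HasRingHomProperty.appLE (P := @Flat) f ‹_› ⟨A, hA⟩ ⟨W₀, hW₀⟩ hW₀A : φ.hom.Flat)
  haveI : Algebra.FinitePresentation Γ(S, A) Γ(S', W₀) :=
    (HasRingHomProperty.appLE (P := @LocallyOfFinitePresentation) f ‹_› ⟨A, hA⟩ ⟨W₀, hW₀⟩ hW₀A :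
      φ.hom.FinitePresentation)
  obtain ⟨q₀, hq₀⟩ : s' ∈ Set.range hW₀.fromSpec := by rw [hW₀.range_fromSpec]; exact hs'W₀
  obtain ⟨R, _, α, P, T, _, _, β, hα, hP, hfin, hflat, hfp, ⟨Q, hQ⟩, hone, hβ⟩ :=
    exists_refine (B := Γ(S, A)) (B' := Γ(S', W₀)) q₀
  let g : Spec (CommRingCat.of R) ⟶ S := Spec.map (CommRingCat.ofHom α) ≫ hA.fromSpec
  haveI : Etale (Spec.map (CommRingCat.ofHom α)) := (HasRingHomProperty.Spec_iff (P := @Etale)).mpr hα
  haveI : Etale g := inferInstance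
  haveI : IsLocallyNoetherian (Spec (CommRingCat.of R)) := LocallyOfFiniteType.isLocallyNoetherian g
  let π : Spec (CommRingCat.of T) ⟶ Spec (CommRingCat.of R) := Spec.map (CommRingCat.ofHom (algebraMap R T))
  haveI : IsFinite π := (IsFinite.SpecMap_iff _).mpr (RingHom.finite_algebraMap.mpr hfin)
  haveI : Flat π := (HasRingHomProperty.Spec_iff (P := @Flat)).mpr (RingHom.flat_algebraMap_iff.mpr hflat)
  haveI : LocallyOfFinitePresentation π := (HasRingHomProperty.Spec_iff (P := @LocallyOfFinitePresentation)).mpr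
    (RingHom.finitePresentation_algebraMap.mpr hfp)
  let b : Spec (CommRingCat.of T) ⟶ S' := Spec.map (CommRingCat.ofHom β) ≫ hW₀.fromSpec
  have hsq : π ≫ g = b ≫ f := by
    rw [show b ≫ f = Spec.map (CommRingCat.ofHom β) ≫ hW₀.fromSpec ≫ f from Category.assoc _ _ _,
      ← IsAffineOpen.SpecMap_appLE_fromSpec f hA hW₀ hW₀A, ← Category.assoc, ← Category.assoc, ← Spec.map_comp,
      ← Spec.map_comp]
    congr 2
    exact CommRingCat.hom_ext hβ.symm
  have hgP : g P = f s' := by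
    rw [← hq₀, ← Scheme.Hom.comp_apply, ← IsAffineOpen.SpecMap_appLE_fromSpec f hA hW₀ hW₀A, Scheme.Hom.comp_apply]
    show hA.fromSpec (PrimeSpectrum.comap α P) = _
    rw [hP]
    rfl
  let V : (Spec (CommRingCat.of R)).Opens := ⟨Set.range π, π.isOpenMap.isOpen_range⟩
  have hPV : P ∈ V := ⟨Q, hQ⟩
  let π' := π ∣_ V
  haveI : IsFinite π' := IsZariskiLocalAtTarget.restrict ‹_› _
  haveI : Flat π' := IsZariskiLocalAtTarget.restrict ‹_› _
  haveI : Surjective π' := ⟨fun v => by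
    obtain ⟨w, hw⟩ := v.2
    refine ⟨⟨w, show π w ∈ V from ⟨w, rfl⟩⟩, V.ι.isOpenEmbedding.injective ?_⟩
    rw [← Scheme.Hom.comp_apply, morphismRestrict_ι, Scheme.Hom.comp_apply]
    exact hw⟩
  let Y := Red.bc (V.ι ≫ g) X
  haveI : Etale Y.hom := inferInstanceAs (Etale (pullback.snd X.hom (V.ι ≫ g)))
  haveI : IsSeparated Y.hom := inferInstanceAs (IsSeparated (pullback.snd X.hom (V.ι ≫ g)))
  obtain ⟨e⟩ := nonempty_bc_congr X (V.ι ≫ g) f π' ((π ⁻¹ᵁ V).ι ≫ b)
    (by rw [morphismRestrict_ι_assoc, hsq]; simp only [b, Category.assoc]) I htriv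
  have hone' : ∀ r₁ r₂ : ↥(pullback π' π'), (pullback.fst π' π' ≫ π') r₁ = (⟨P, hPV⟩ : V) →
      (pullback.fst π' π' ≫ π') r₂ = (⟨P, hPV⟩ : V) → r₁ = r₂ := by
    let m : pullback π' π' ⟶ pullback π π :=
      pullback.map π' π' π π (π ⁻¹ᵁ V).ι (π ⁻¹ᵁ V).ι V.ι (morphismRestrict_ι π V) (morphismRestrict_ι π V)
    let k := m ≫ (pullbackSpecIso R T T).hom
    have hk : k ≫ Spec.map (CommRingCat.ofHom (algebraMap R (TensorProduct R T T))) =
        (pullback.fst π' π' ≫ π') ≫ V.ι := by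
      have hiso : (pullbackSpecIso R T T).hom ≫
          Spec.map (CommRingCat.ofHom (algebraMap R (TensorProduct R T T))) = pullback.fst π π ≫ π := by
        rw [← pullbackSpecIso_hom_fst, Category.assoc, ← Spec.map_comp]
        congr 2
      rw [Category.assoc, hiso, pullback.lift_fst_assoc, Category.assoc, Category.assoc, morphismRestrict_ι]
    intro r₁ r₂ h₁ h₂
    have hkP : ∀ r, (pullback.fst π' π' ≫ π') r = (⟨P, hPV⟩ : V) →
        PrimeSpectrum.comap (algebraMap R (TensorProduct R T T)) (k r) = P := fun r hr => by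
      show (Spec.map (CommRingCat.ofHom (algebraMap R (TensorProduct R T T)))) (k r) = P
      rw [← Scheme.Hom.comp_apply, hk, Scheme.Hom.comp_apply, hr]
      rfl
    have hm : Function.Injective m := by
      haveI : IsOpenImmersion m := inferInstance
      exact m.isOpenEmbedding.injective
    apply hm
    apply (pullbackSpecIso R T T).hom.isOpenEmbedding.injective
    rw [← Scheme.Hom.comp_apply, ← Scheme.Hom.comp_apply]
    exact hone _ _ (hkP r₁ h₁) (hkP r₂ h₂)
  obtain ⟨U, hU, ⟨e'⟩⟩ := exists_const_nhd π' Y I e (⟨P, hPV⟩ : V) hone'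
  refine ⟨U, U.ι ≫ V.ι ≫ g, inferInstance, ⟨⟨⟨P, hPV⟩, hU⟩, ?_⟩, I, ⟨?_⟩⟩
  · show (U.ι ≫ V.ι ≫ g) _ = f s'
    rw [Scheme.Hom.comp_apply, Scheme.Hom.comp_apply]
    exact hgP
  · exact (Over.pullbackComp U.ι (V.ι ≫ g)).app X ≪≫ e'

end Groth.Agent.TwC18
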