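import Groth.Prelude.Def_TwC
import Mathlib.AlgebraicGeometry.Limits
import Mathlib.AlgebraicGeometry.PullbackCarrier

/-!
# Base change of constant and twisted constant schemes
-/

set_option autoImplicit false
set_option linter.style.haveILetI false
set_option backward.isDefEq.respectTransparency false
set_option backward.isDefEq.respectTransparency.types false

universe u

open CategoryTheory CategoryTheory.Limits AlgebraicGeometry

namespace Groth.Agent.TwC18

open scoped Function in
/-- A disjoint union of copies is stable under base change. -/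
theorem isPullback_desc {S' S'' : Scheme.{u}} (j : S'' ⟶ S') (I : Type u) :
    IsPullback (Limits.Sigma.map fun _ : I => j) (Sigma.desc fun _ : I => 𝟙 S'')
      (Sigma.desc fun _ : I => 𝟙 S') j := by
  let d : (∐ fun _ : I => S') ⟶ S' := Sigma.desc fun _ : I => 𝟙 S'
  have hι : ∀ i, Sigma.ι (fun _ : I => S') i ≫ d = 𝟙 S' := fun i => Sigma.ι_desc _ i
  let f : ∀ _ : I, S'' ⟶ pullback d j := fun i =>
    pullback.lift (j ≫ Sigma.ι (fun _ : I => S') i) (𝟙 S'') (by rw [Category.assoc, hι, Category.comp_id,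
      Category.id_comp])
  have hp : ∀ i, IsPullback (f i) j (pullback.fst d j) (Sigma.ι (fun _ : I => S') i) := fun i => by
    refine IsPullback.of_right ?_ (pullback.lift_fst _ _ _) (IsPullback.of_hasPullback d j).flip
    rw [pullback.lift_snd, hι]
    exact IsPullback.of_horiz_isIso ⟨by simp⟩
  haveI : ∀ i, IsOpenImmersion (f i) := fun i =>
    MorphismProperty.of_isPullback (P := @IsOpenImmersion) (hp i).flip inferInstance
  have hrange : ∀ i, (f i).opensRange = (pullback.fst d j) ⁻¹ᵁ (Sigma.ι (fun _ : I => S') i).opensRange := fun i => by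
    refine TopologicalSpace.Opens.ext (Set.Subset.antisymm ?_ ?_)
    · rintro _ ⟨y, rfl⟩
      refine ⟨j y, ?_⟩
      rw [← Scheme.Hom.comp_apply, ← Scheme.Hom.comp_apply, (hp i).w]
    · rintro z ⟨v, hv⟩
      obtain ⟨w, hw, -⟩ := Scheme.Pullback.exists_preimage_pullback (f := pullback.fst d j)
        (g := Sigma.ι (fun _ : I => S') i) z v hv.symm
      refine ⟨(hp i).isoPullback.inv w, ?_⟩
      rw [← Scheme.Hom.comp_apply, (hp i).isoPullback_inv_fst]
      exact hw
  have hiso : IsIso (Sigma.desc f) := by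
    refine (Cofan.nonempty_isColimit_iff_isIso_sigmaDesc (Cofan.mk _ f)).mp
      (nonempty_isColimit_cofanMk_of f (eq_top_iff.mpr fun z _ => ?_) fun a b hab => ?_)
    · obtain ⟨⟨i, y⟩, hy⟩ := (sigmaMk fun _ : I => S').surjective (pullback.fst d j z)
      rw [sigmaMk_mk] at hy
      refine TopologicalSpace.Opens.mem_iSup.mpr ⟨i, ?_⟩
      rw [hrange]
      exact ⟨y, hy⟩
    · show Disjoint (f a).opensRange (f b).opensRange
      rw [hrange, hrange, disjoint_iff, ← Scheme.Hom.preimage_inf,
        (disjoint_opensRange_sigmaι (fun _ : I => S') a b hab).eq_bot]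
      exact Scheme.Hom.preimage_bot _
  refine IsPullback.of_iso_pullback ⟨Sigma.hom_ext _ _ fun i => by simp⟩ (asIso (Sigma.desc f)) ?_ ?_
  · refine Sigma.hom_ext _ _ fun i => ?_
    rw [asIso_hom, Sigma.ι_desc_assoc, Sigma.ι_map]
    exact pullback.lift_fst _ _ _
  · refine Sigma.hom_ext _ _ fun i => ?_
    rw [asIso_hom, Sigma.ι_desc_assoc, Sigma.ι_desc]
    exact pullback.lift_snd _ _ _

/-- The base change of a constant scheme is constant. -/
theorem nonempty_bc_const {S' S'' : Scheme.{u}} (j : S'' ⟶ S') (I : Type u) :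
    Nonempty (Red.bc j (TwC.const S' I) ≅ TwC.const S'' I) :=
  ⟨Over.isoMk (isPullback_desc j I).isoPullback.symm ((isPullback_desc j I).isoPullback_inv_snd)⟩

/-- Transport of a trivialisation along a base change. -/
theorem nonempty_bc_congr {S T S' S'' : Scheme.{u}} (X : Over S) (g : T ⟶ S) (f : S' ⟶ S) (a : S'' ⟶ T)
    (b : S'' ⟶ S') (h : a ≫ g = b ≫ f) (I : Type u) (e : Nonempty (Red.bc f X ≅ TwC.const S' I)) :
    Nonempty (Red.bc a (Red.bc g X) ≅ TwC.const S'' I) := by
  obtain ⟨e⟩ := e
  obtain ⟨c⟩ := nonempty_bc_const b I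
  exact ⟨((Over.pullbackComp a g).app X).symm ≪≫ eqToIso (congrArg (fun q => Red.bc q X) h) ≪≫ (Over.pullbackComp b f).app X ≪≫
    (Over.pullback b).mapIso e ≪≫ c⟩

/-- Base change preserves quasi-isotrivial twisted constant schemes. -/
theorem isTwConst_etale_bc {S T : Scheme.{u}} (X : Over S) (g : T ⟶ S)
    (hX : TwC.IsTwConst TwC.Topology.etale X) : TwC.IsTwConst TwC.Topology.etale (Red.bc g X) := by
  intro t
  obtain ⟨S', f, hf, ⟨s', hs'⟩, I, he⟩ := hX (g t)
  haveI := hf
  obtain ⟨z, hz, -⟩ := Scheme.Pullback.exists_preimage_pullback (f := g) (g := f) t s' hs'.symm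
  exact ⟨pullback g f, pullback.fst g f, inferInstance, ⟨z, hz⟩, I,
    nonempty_bc_congr X g f _ _ pullback.condition I he⟩

end Groth.Agent.TwC18
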