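import Groth.Agent.SrcDescent.Algebra
import Groth.Agent.MorLib.EtaleGeomPoint
import Groth.Agent.S9432

/-!
# An fppf algebra is dominated, near a prime, by an etale one followed by a finite flat radicial one
-/

set_option autoImplicit false
set_option linter.style.haveILetI false
set_option backward.isDefEq.respectTransparency false
set_option synthInstance.maxHeartbeats 400000

universe u

open TensorProduct

namespace Groth.Agent.TwC18

theorem exists_ff_away (P D : Type u) [CommRing P] [CommRing D] [Algebra P D] [Module.Flat P D]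
    [Algebra.FinitePresentation P D] (Q : PrimeSpectrum D) :
    ∃ h : P, h ∉ Q.asIdeal.comap (algebraMap P D) ∧
      Module.FaithfullyFlat (Localization.Away h) (Localization.Away h ⊗[P] D) := by
  have ho : IsOpen (Set.range (PrimeSpectrum.comap (algebraMap P D))) :=
    PrimeSpectrum.isOpenMap_comap_of_hasGoingDown_of_finitePresentation.isOpen_range
  obtain ⟨_, ⟨_, ⟨h, rfl⟩, rfl⟩, hQ, hsub⟩ :=
    PrimeSpectrum.isBasis_basic_opens.exists_subset_of_mem_open (Set.mem_range_self Q) ho
  refine ⟨h, hQ, Module.FaithfullyFlat.of_comap_surjective ?_⟩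
  refine Groth.Agent.SrcDescent.comap_surjective_includeLeft fun q => hsub ?_
  have := Set.mem_range_self (f := PrimeSpectrum.comap (algebraMap P (Localization.Away h))) q
  rwa [PrimeSpectrum.localization_away_comap_range (Localization.Away h) h] at this

/-- If a finite algebra has one geometric point over a point, so does its tensor square. -/
theorem prime_unique {R T Ω : Type u} [CommRing R] [CommRing T] [Algebra R T] [Module.Finite R T] [Field Ω]
    [IsAlgClosed Ω] [Algebra R Ω] (h : ∀ f g : T →ₐ[R] Ω, f = g) (Z₁ Z₂ : Ideal (T ⊗[R] T)) [Z₁.IsPrime]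
    [Z₂.IsPrime] (h₁ : Z₁.comap (algebraMap R (T ⊗[R] T)) = RingHom.ker (algebraMap R Ω))
    (h₂ : Z₂.comap (algebraMap R (T ⊗[R] T)) = RingHom.ker (algebraMap R Ω)) : Z₁ = Z₂ := by
  have key : ∀ (Z : Ideal (T ⊗[R] T)), Z.IsPrime → Z.comap (algebraMap R (T ⊗[R] T)) = RingHom.ker (algebraMap R Ω) →
      ∃ φ : T ⊗[R] T →ₐ[R] Ω, RingHom.ker (φ : T ⊗[R] T →+* Ω) = Z := by
    intro Z hZ hP
    haveI := hZ
    let P : Ideal R := RingHom.ker (algebraMap R Ω)
    haveI : P.IsPrime := RingHom.ker_isPrime _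
    haveI : Z.LiesOver P := ⟨hP.symm⟩
    letI := Localization.AtPrime.algebraOfLiesOver P Z
    haveI : Algebra.IsAlgebraic P.ResidueField Z.ResidueField := Algebra.IsAlgebraic.of_finite _ _
    let j : P.ResidueField →ₐ[R] Ω := Ideal.ResidueField.liftₐ P (Algebra.ofId R Ω)
      (fun x hx => hx) fun x hx => isUnit_iff_ne_zero.mpr hx
    letI : Algebra P.ResidueField Ω := j.toRingHom.toAlgebra
    haveI : IsScalarTower R P.ResidueField Ω := IsScalarTower.of_algebraMap_eq fun x => (j.commutes x).symm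
    let θ : Z.ResidueField →ₐ[P.ResidueField] Ω := IsAlgClosed.lift
    refine ⟨(θ.restrictScalars R).comp (IsScalarTower.toAlgHom R (T ⊗[R] T) Z.ResidueField), ?_⟩
    show RingHom.ker ((θ : Z.ResidueField →+* Ω).comp (algebraMap (T ⊗[R] T) Z.ResidueField)) = Z
    rw [RingHom.ker_comp_of_injective _ (θ : Z.ResidueField →+* Ω).injective, Ideal.ker_algebraMap_residueField]
  obtain ⟨φ₁, hφ₁⟩ := key Z₁ inferInstance h₁
  obtain ⟨φ₂, hφ₂⟩ := key Z₂ inferInstance h₂
  rw [← hφ₁, ← hφ₂, show φ₁ = φ₂ from Algebra.TensorProduct.ext' fun a b => by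
    rw [show a ⊗ₜ[R] b = (a ⊗ₜ[R] 1) * (1 ⊗ₜ[R] b) by simp, map_mul, map_mul]
    exact congrArg₂ (· * ·)
      (DFunLike.congr_fun (h (φ₁.comp Algebra.TensorProduct.includeLeft) (φ₂.comp Algebra.TensorProduct.includeLeft)) a)
      (DFunLike.congr_fun (h (φ₁.comp Algebra.TensorProduct.includeRight) (φ₂.comp Algebra.TensorProduct.includeRight)) b)]

/-- Etale, then finite flat with one geometric point over the marked prime. -/
theorem exists_refine {B B' : Type u} [CommRing B] [CommRing B'] [Algebra B B'] [Module.Flat B B']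
    [Algebra.FinitePresentation B B'] (q : PrimeSpectrum B') :
    ∃ (R : Type u) (_ : CommRing R) (α : B →+* R) (P : PrimeSpectrum R) (T : Type u) (_ : CommRing T)
      (_ : Algebra R T) (β : B' →+* T),
      α.Etale ∧ PrimeSpectrum.comap α P = PrimeSpectrum.comap (algebraMap B B') q ∧
      Module.Finite R T ∧ Module.Flat R T ∧ Algebra.FinitePresentation R T ∧
      (∃ Q : PrimeSpectrum T, PrimeSpectrum.comap (algebraMap R T) Q = P) ∧
      (∀ Z₁ Z₂ : PrimeSpectrum (T ⊗[R] T), PrimeSpectrum.comap (algebraMap R (T ⊗[R] T)) Z₁ = P →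
        PrimeSpectrum.comap (algebraMap R (T ⊗[R] T)) Z₂ = P → Z₁ = Z₂) ∧
      β.comp (algebraMap B B') = (algebraMap R T).comp α := by
  obtain ⟨h, hh, hff⟩ := exists_ff_away B B' q
  let B₁ := Localization.Away h
  haveI := hff
  haveI : Algebra.Etale B B₁ := Algebra.Etale.of_isLocalizationAway h
  have hd : Disjoint (Submonoid.powers h : Set B) (q.asIdeal.comap (algebraMap B B')) :=
    (Ideal.disjoint_powers_iff_notMem_of_isPrime _).2 hh
  let p₁ : Ideal B₁ := (q.asIdeal.comap (algebraMap B B')).map (algebraMap B B₁)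
  haveI : p₁.IsPrime := IsLocalization.isPrime_of_isPrime_disjoint (Submonoid.powers h) _ _ inferInstance hd
  obtain ⟨Q, _, _, hqf, hft, hQff, hQfp, ⟨σ⟩⟩ := S9432.result B₁ (B₁ ⊗[B] B')
  obtain ⟨q₁, hq₁⟩ := PrimeSpectrum.comap_surjective_of_faithfullyFlat (A := B₁) (B := Q) ⟨p₁, inferInstance⟩
  haveI : q₁.asIdeal.LiesOver p₁ := ⟨(congrArg PrimeSpectrum.asIdeal hq₁).symm⟩
  letI := Localization.AtPrime.algebraOfLiesOver p₁ q₁.asIdeal
  haveI : Algebra.IsAlgebraic p₁.ResidueField q₁.asIdeal.ResidueField := Algebra.IsAlgebraic.of_finite _ _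
  let Ω := AlgebraicClosure p₁.ResidueField
  let θ : q₁.asIdeal.ResidueField →ₐ[p₁.ResidueField] Ω := IsAlgClosed.lift
  let s : Q →ₐ[B₁] Ω := (θ.restrictScalars B₁).comp (IsScalarTower.toAlgHom B₁ Q q₁.asIdeal.ResidueField)
  haveI := RingHom.ker_isPrime (s : Q →+* Ω)
  have hs : Algebra.QuasiFiniteAt B₁ (RingHom.ker (s : Q →+* Ω)) := inferInstance
  obtain ⟨R, _, _, hR, r, e, he, hfin, hne, huniq⟩ := MorLib.EGP.exists_etale_isolated_geomPoint s hs
  let T := Localization.Away e
  haveI : Module.Finite R T := hfin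
  haveI : Algebra.FinitePresentation (R ⊗[B₁] Q) T := IsLocalization.Away.finitePresentation e
  haveI : Algebra.FinitePresentation R T := Algebra.FinitePresentation.trans R (R ⊗[B₁] Q) T
  haveI : Module.Flat (R ⊗[B₁] Q) T := IsLocalization.flat T (Submonoid.powers e)
  haveI : Module.Flat R T := Module.Flat.trans R (R ⊗[B₁] Q) T
  letI : Algebra R Ω := r.toRingHom.toAlgebra
  let L : (Q →ₐ[B₁] Ω) → (R ⊗[B₁] Q →+* Ω) := fun s' =>
    (Algebra.TensorProduct.lift r s' fun _ _ => .all _ _).toRingHom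
  -- every `Ω`-point of `T` over `r` is the given one
  have hpt : ∀ f g : T →ₐ[R] Ω, f = g := by
    have one : ∀ f : T →ₐ[R] Ω, f.toRingHom.comp (algebraMap (R ⊗[B₁] Q) T) = L s := by
      intro f
      let f' : R ⊗[B₁] Q →ₐ[R] Ω := f.comp (IsScalarTower.toAlgHom R (R ⊗[B₁] Q) T)
      let sf : Q →ₐ[B₁] Ω := ⟨f'.toRingHom.comp Algebra.TensorProduct.includeRight.toRingHom, fun x => by
        show f' (Algebra.TensorProduct.includeRight (algebraMap B₁ Q x)) = _
        rw [AlgHom.commutes, IsScalarTower.algebraMap_apply B₁ R (R ⊗[B₁] Q), AlgHom.commutes]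
        exact r.commutes x⟩
      have hL : L sf = f'.toRingHom := by
        refine RingHom.ext fun z => ?_
        induction z using TensorProduct.induction_on with
        | zero => rw [map_zero, map_zero]
        | add x y hx hy => rw [map_add, map_add, hx, hy]
        | tmul a b =>
          show Algebra.TensorProduct.lift r sf _ (a ⊗ₜ b) = f' (a ⊗ₜ b)
          rw [Algebra.TensorProduct.lift_tmul, show (a ⊗ₜ[B₁] b : R ⊗[B₁] Q) =
            algebraMap R (R ⊗[B₁] Q) a * Algebra.TensorProduct.includeRight b by simp, map_mul, AlgHom.commutes]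
          rfl
      have hu : IsUnit (L sf e) := by
        rw [hL]
        exact (IsLocalization.Away.algebraMap_isUnit e).map f
      rw [← huniq sf hu.ne_zero, hL]
      rfl
    intro f g
    exact AlgHom.coe_ringHom_injective
      (IsLocalization.ringHom_ext (Submonoid.powers e) ((one f).trans (one g).symm))
  let ψ : T →+* Ω := IsLocalization.Away.lift e (isUnit_iff_ne_zero.mpr hne : IsUnit (L s e))
  refine ⟨R, inferInstance, (algebraMap B₁ R).comp (algebraMap B B₁), ⟨RingHom.ker r, RingHom.ker_isPrime _⟩, T,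
    inferInstance, inferInstance,
    ((algebraMap (R ⊗[B₁] Q) T).comp (Algebra.TensorProduct.includeRight (R := B₁) (A := R) (B := Q)).toRingHom).comp
      (σ.toRingHom.comp (Algebra.TensorProduct.includeRight (R := B) (A := B₁) (B := B')).toRingHom),
    ?_, ?_, inferInstance, inferInstance, inferInstance, ⟨⟨RingHom.ker ψ, RingHom.ker_isPrime _⟩, ?_⟩,
    fun Z₁ Z₂ h₁ h₂ => PrimeSpectrum.ext
      (prime_unique hpt Z₁.asIdeal Z₂.asIdeal (congrArg PrimeSpectrum.asIdeal h₁) (congrArg PrimeSpectrum.asIdeal h₂)),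
    RingHom.ext fun x => ?_⟩
  · exact RingHom.Etale.stableUnderComposition _ _ (RingHom.etale_algebraMap.mpr inferInstance)
      (RingHom.etale_algebraMap.mpr hR)
  · refine PrimeSpectrum.ext ?_
    show Ideal.comap ((algebraMap B₁ R).comp (algebraMap B B₁)) (RingHom.ker r) = _
    rw [← Ideal.comap_comap, show (RingHom.ker r).comap (algebraMap B₁ R) = p₁ from ?_]
    · exact IsLocalization.comap_map_of_isPrime_disjoint (Submonoid.powers h) B₁ inferInstance hd
    · ext x
      rw [Ideal.mem_comap, RingHom.mem_ker, AlgHom.commutes,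
        IsScalarTower.algebraMap_apply B₁ p₁.ResidueField Ω, map_eq_zero, Ideal.algebraMap_residueField_eq_zero]
  · refine PrimeSpectrum.ext ?_
    show (RingHom.ker ψ).comap (algebraMap R T) = RingHom.ker r
    rw [RingHom.comap_ker]
    ext x
    rw [RingHom.mem_ker, RingHom.comp_apply, IsScalarTower.algebraMap_apply R (R ⊗[B₁] Q) T,
      IsLocalization.Away.lift_eq]
    show Algebra.TensorProduct.lift r s _ (x ⊗ₜ 1) = 0 ↔ r x = 0
    rw [Algebra.TensorProduct.lift_tmul, map_one, mul_one]
  · have h1 : σ (Algebra.TensorProduct.includeRight (R := B) (A := B₁) (algebraMap B B' x)) =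
        algebraMap B₁ Q (algebraMap B B₁ x) := by
      rw [AlgHom.commutes, IsScalarTower.algebraMap_apply B B₁ (B₁ ⊗[B] B'), AlgHom.commutes]
    show algebraMap (R ⊗[B₁] Q) T (Algebra.TensorProduct.includeRight (R := B₁) (A := R)
      (σ (Algebra.TensorProduct.includeRight (R := B) (A := B₁) (algebraMap B B' x)))) = _
    rw [h1, AlgHom.commutes, IsScalarTower.algebraMap_apply B₁ R (R ⊗[B₁] Q),
      ← IsScalarTower.algebraMap_apply R (R ⊗[B₁] Q) T]
    rfl

end Groth.Agent.TwC18
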